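import Groth.Agent.Lib.FieldBr3.CurveCd
import Groth.Agent.Lib.FieldBr3.CurveSupp
import Groth.Agent.Lib.Punctual24.Basic
import Groth.Agent.Lib.EtAcyc24.PushClasses
import Groth.Agent.Lib.EtAcyc24.CompN
import Groth.Agent.Lib.EtAcyc24.Comp
import Groth.Agent.S0642

/-!
# Restriction to opens in degree two on curves over algebraically closed fields
-/

set_option autoImplicit false
set_option linter.style.haveILetI false
set_option linter.unusedSectionVars false
set_option backward.isDefEq.respectTransparency.types false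
set_option maxHeartbeats 1600000

universe u

open CategoryTheory CategoryTheory.Limits AlgebraicGeometry Opposite CategoryTheory.Abelian

namespace Groth.Agent.CurveOpen24

open Groth.Agent.EtStalk Groth.Agent.EtPic3 Groth.Agent.FieldBr3

variable {U X : Scheme.{u}} (j : U ⟶ X) [IsOpenImmersion j]

lemma Hpull_mk₀ [PreservesFiniteLimits (EtCoh.pull j)] {F G : EtCoh.Ab X} (φ : F ⟶ G) (q : ℕ) (x : EtCoh.H X F q) :
    (EtCore.Hpull j F q x).comp (Ext.mk₀ ((EtCoh.pull j).map φ)) (add_zero q) =
      EtCore.Hpull j G q (x.comp (Ext.mk₀ φ) (add_zero q)) :=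
  LocAcyc24.Hpull_nat j φ q x

/-- The unit is an isomorphism on direct images from an open. -/
lemma isIso_unit_push (M : EtCoh.Ab U) :
    IsIso ((EtCoh.pullPushAdj j).unit.app ((EtCoh.push j).obj M)) := by
  haveI : AlgebraicGeometry.Etale j := inferInstance
  haveI := EtStalk.isIso_pullPush_counit j
  haveI : IsIso ((EtCoh.push j).map ((EtCoh.pullPushAdj j).counit.app M)) := inferInstance
  haveI : IsIso ((EtCoh.pullPushAdj j).unit.app ((EtCoh.push j).obj M) ≫
      (EtCoh.push j).map ((EtCoh.pullPushAdj j).counit.app M)) := by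
    rw [Adjunction.right_triangle_components]; exact inferInstanceAs (IsIso (𝟙 _))
  exact IsIso.of_isIso_comp_right _ ((EtCoh.push j).map ((EtCoh.pullPushAdj j).counit.app M))

/-- Global sections of a punctual sheaf restrict surjectively to opens. -/
theorem surjective_Hpull_zero [IsNoetherian X] [PreservesFiniteLimits (EtCoh.pull j)] {P : EtCoh.Ab X}
    (hP : Punctual24.Punctual P) : Function.Surjective (EtCore.Hpull j P 0) := by
  haveI : CompactSpace U := by haveI : QuasiCompact j := inferInstance; exact QuasiCompact.compactSpace_of_compactSpace j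
  haveI : QuasiSeparatedSpace U := quasiSeparatedSpace_of_quasiSeparated j
  let f := fun x : Punctual24.Pts X => Punctual24.suppAt P x.1 x.2
  haveI := Punctual24.isIso_desc hP
  let e := asIso (Sigma.desc fun x : Punctual24.Pts X =>
    kernel.ι ((EtCoh.pullPushAdj (Punctual24.compl x.1 x.2).ι).unit.app P))
  suffices H : Function.Surjective (EtCore.Hpull j (∐ f) 0) by
    intro y
    obtain ⟨z, hz⟩ := (EtAcyc24.bijective_comp_iso ((EtCoh.pull j).mapIso e) 0).2 y
    obtain ⟨x, rfl⟩ := H z
    exact ⟨x.comp (Ext.mk₀ e.hom) (add_zero 0), (Hpull_mk₀ j e.hom 0 x).symm.trans hz⟩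
  -- each summand
  have hb : ∀ b, Function.Surjective (EtCore.Hpull j (f b) 0) := by
    intro b
    by_cases hbU : b.1 ∈ Set.range j
    · let i := X.fromSpecResidueField b.1
      have hxc : IsClosedImmersion i := isClosed_singleton_iff_isClosedImmersion.mp b.2
      haveI := Punctual24.isIso_unit_suppAt (P := P) b.1 b.2 hxc
      have hr : Set.range i ⊆ Set.range j := by
        rw [Scheme.range_fromSpecResidueField]; exact Set.singleton_subset_iff.2 hbU
      let i' := IsOpenImmersion.lift j i hr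
      have hi' : i' ≫ j = i := IsOpenImmersion.lift_fac _ _ _
      let A := (EtCoh.pull i).obj (f b)
      let e' : f b ≅ (EtCoh.push j).obj ((EtCoh.push i').obj A) :=
        asIso ((EtCoh.pullPushAdj i).unit.app (f b)) ≪≫ (EtCoh.pushCongr hi'.symm).app A ≪≫
          ((EtCoh.pushComp j i').app A).symm
      haveI := isIso_unit_push j ((EtCoh.push i').obj A)
      haveI : IsIso ((EtCoh.pullPushAdj j).unit.app (f b)) := by
        have h := (EtCoh.pullPushAdj j).unit.naturality e'.hom
        haveI : IsIso ((EtCoh.pullPushAdj j).unit.app (f b) ≫ (EtCoh.pull j ⋙ EtCoh.push j).map e'.hom) := by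
          rw [← h]; infer_instance
        exact IsIso.of_isIso_comp_right _ ((EtCoh.pull j ⋙ EtCoh.push j).map e'.hom)
      intro y
      obtain ⟨z, hz⟩ := (EtAcyc24.HofPush_zero_bijective j _).2 y
      obtain ⟨x, rfl⟩ := (EtAcyc24.bijective_comp_iso (asIso ((EtCoh.pullPushAdj j).unit.app (f b))) 0).2 z
      exact ⟨x, (FieldH25.HofPush_unit j (f b) 0 x).symm.trans hz⟩
    · have hz : IsZero ((EtCoh.pull j).obj (f b)) := by
        rw [isZero_iff_stalk]
        intro Ω _ _ ζ
        exact (Punctual24.isZero_stalk_suppAt P b.1 b.2 Ω (ζ ≫ j) fun e =>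
          hbU (e ▸ ⟨ζ default, rfl⟩)).of_iso (asIso (stalkPull j ζ (f b))).symm
      haveI : Subsingleton (EtCoh.H U ((EtCoh.pull j).obj (f b)) 0) := by
        refine subsingleton_of_forall_eq 0 fun z => ?_
        obtain ⟨a, rfl⟩ := (Ext.mk₀_bijective _ _).2 z
        rw [hz.eq_of_tgt a 0, Ext.mk₀_zero]
      exact fun y => ⟨0, Subsingleton.elim _ _⟩
  -- combine
  haveI : (EtCoh.pull j).Additive := (EtCoh.pullPushAdj j).left_adjoint_additive
  haveI : PreservesColimitsOfShape (Finset (Discrete (Punctual24.Pts X))) (EtCoh.pull j) := by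
    haveI := (EtCoh.pullPushAdj j).leftAdjoint_preservesColimits
    infer_instance
  haveI : IsFiltered (Finset (Discrete (Punctual24.Pts X))) := inferInstance
  haveI := EtColim.preservesColimitsOfShape_HF_small U 0 (Finset (Discrete (Punctual24.Pts X)))
  let Φ := EtCoh.pull j ⋙ EtCoh.HF U 0
  haveI : PreservesColimit (Discrete.functor f) Φ := AcyclicSum8.preservesColimit_discrete Φ f
  have hc := isColimitCofanMkObjOfIsColimit Φ f _ (coproductIsCoproduct f)
  let R : AddSubgroup (EtCoh.H U ((EtCoh.pull j).obj (∐ f)) 0) := (EtCore.Hpull j (∐ f) 0).range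
  let q : Φ.obj (∐ f) ⟶ AddCommGrpCat.of (EtCoh.H U ((EtCoh.pull j).obj (∐ f)) 0 ⧸ R) :=
    AddCommGrpCat.ofHom (QuotientAddGroup.mk' R)
  have hq : q = 0 := Cofan.IsColimit.hom_ext hc _ _ fun b => by
    rw [comp_zero]
    refine AddCommGrpCat.hom_ext (AddMonoidHom.ext fun y => ?_)
    obtain ⟨x, rfl⟩ := hb b y
    exact (QuotientAddGroup.eq_zero_iff _).2 ⟨x.comp (Ext.mk₀ (Sigma.ι f b)) (add_zero 0),
      (Hpull_mk₀ j (Sigma.ι f b) 0 x).symm⟩
  intro y
  exact (QuotientAddGroup.eq_zero_iff y).1 (congrArg (fun t => t y) hq)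

variable {k : Type u} [Field k] [IsAlgClosed k] (s : X ⟶ Spec (CommRingCat.of k))
  [LocallyOfFiniteType s] [QuasiCompact s]

lemma suppClosed_pull {K : EtCoh.Ab X} (hK : SuppClosed K) : SuppClosed ((EtCoh.pull j).obj K) := by
  intro Ω _ _ ζ hζ
  haveI := hK Ω (ζ ≫ j) fun h => hζ (by
    have h' := h.preimage j.continuous
    rwa [show j ⁻¹' {(ζ ≫ j) default} = ({ζ default} : Set U) from
      Set.ext fun u => ⟨fun hu => j.isOpenEmbedding.injective hu, fun hu => congrArg j hu⟩] at h')
  exact (ConcreteCategory.bijective_of_isIso (inv (stalkPull j ζ K))).1.subsingleton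

include s in
/-- The contribution of a maximal point. -/
theorem exists_lift_push_pull [IsReduced X] (hdim : topologicalKrullDim X ≤ 1)
    [PreservesFiniteLimits (EtCoh.pull j)] (η : X) (hη : IsMaxPt X η) (F : EtCoh.Ab X) (hF : EtCoh.IsTorsion F)
    (y : EtCoh.H U ((EtCoh.pull j).obj ((EtCoh.push (X.fromSpecStalk η)).obj
      ((EtCoh.pull (X.fromSpecStalk η)).obj F))) 2) :
    ∃ x, EtCore.Hpull j _ 2 x = y := by
  haveI : IsLocallyNoetherian X := LocallyOfFiniteType.isLocallyNoetherian s
  haveI : CompactSpace X := QuasiCompact.compactSpace_of_compactSpace s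
  haveI : IsNoetherian X := ⟨⟩
  haveI : QuasiCompact j := inferInstance
  let g := X.fromSpecStalk η
  let G := (EtCoh.pull g).obj F
  by_cases hηU : η ∈ Set.range j
  swap
  · have hz : SuppClosed ((EtCoh.pull j).obj ((EtCoh.push g).obj G)) := by
      intro Ω _ _ ζ hζ
      haveI := subsingleton_stalk_push η hη G (ζ ≫ j) fun hsp => hηU (by
        have hmax : IsMaxPt X ((ζ ≫ j) default) := isMaxPt_of_dim_le_one hdim fun h => hζ (by
          have h' := h.preimage j.continuous
          rwa [show j ⁻¹' {(ζ ≫ j) default} = ({ζ default} : Set U) from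
            Set.ext fun u => ⟨fun hu => j.isOpenEmbedding.injective hu, fun hu => congrArg j hu⟩] at h')
        exact ⟨ζ default, (hmax η hsp).symm⟩)
      exact (ConcreteCategory.bijective_of_isIso (inv (stalkPull j ζ ((EtCoh.push g).obj G)))).1.subsingleton
    exact ⟨0, (map_zero _).trans (@Subsingleton.elim _
      (subsingleton_H_suppClosed (j ≫ s) _ hz (q := 2) (by norm_num)) _ _)⟩
  haveI := subsingleton_spec_stalk hη
  have hG : EtCoh.IsTorsion G := isTorsion_pull' g hF
  let S := ShortComplex.mk (Injective.ι G) (cokernel.π (Injective.ι G)) (cokernel.condition _)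
  have hS : S.ShortExact := { exact := ShortComplex.exact_cokernel (Injective.ι G) }
  haveI : Injective S.X₂ := inferInstanceAs (Injective (Injective.under G))
  haveI : (EtCoh.push g).IsRightAdjoint := (EtCoh.pullPushAdj g).isRightAdjoint
  haveI := hS.mono_f
  let a := (EtCoh.push g).map S.f
  haveI : Mono a := inferInstance
  let T := ShortComplex.mk a (cokernel.π a) (cokernel.condition _)
  have hT : T.ShortExact := { exact := ShortComplex.exact_cokernel a }
  haveI : Injective T.X₂ := EtStalk.injective_push g S.X₂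
  haveI : PreservesLimitsOfSize.{0, 0} (EtCoh.push g) := (EtCoh.pullPushAdj g).rightAdjoint_preservesLimits
  haveI : PreservesFiniteLimits (EtCoh.push g) := PreservesLimitsOfSize.preservesFiniteLimits _
  have hw : a ≫ (EtCoh.push g).map S.g = 0 := by rw [← Functor.map_comp, S.zero, Functor.map_zero]
  let κ : T.X₃ ⟶ (EtCoh.push g).obj S.X₃ := cokernel.desc a ((EtCoh.push g).map S.g) hw
  haveI : Mono κ := (hS.exact.map_of_mono_of_preservesKernel (EtCoh.push g) hS.mono_f inferInstance).mono_cokernelDesc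
  let Q := ShortComplex.mk κ (cokernel.π κ) (cokernel.condition _)
  have hQ : Q.ShortExact := { exact := ShortComplex.exact_cokernel κ }
  have hz : (EtCoh.push g).map S.g ≫ Q.g = 0 := by
    rw [← (cokernel.π_desc a ((EtCoh.push g).map S.g) hw), Category.assoc]
    exact (congrArg (_ ≫ ·) (cokernel.condition κ)).trans comp_zero
  have hD : Punctual24.Punctual Q.X₃ := fun Ω _ _ ξ hξ => by
    haveI hep : Epi ((EtCoh.stalk ξ).map Q.g) := by
      haveI : Epi Q.g := inferInstanceAs (Epi (cokernel.π κ))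
      infer_instance
    refine @AddCommGrpCat.isZero_of_subsingleton _ (subsingleton_of_forall_eq 0 fun p => ?_)
    obtain ⟨b, rfl⟩ := (AddCommGrpCat.epi_iff_surjective _).1 hep p
    have hmax := isMaxPt_of_dim_le_one hdim hξ
    by_cases hηξ : ξ (default : Spec (CommRingCat.of Ω)) = η
    · obtain ⟨ζ, rfl⟩ := exists_lift_maxPt η ξ hηξ
      have hsurj : Function.Surjective ((EtCoh.stalk (ζ ≫ g)).map ((EtCoh.push g).map S.g)) := fun c => by
        haveI : Epi S.g := hS.epi_g
        obtain ⟨d, hd⟩ := (EtStalk.epi_iff_stalk S.g).1 inferInstance Ω ζ (pushStalk g ζ S.X₃ c)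
        obtain ⟨e, rfl⟩ := (bijective_pushStalk_maxPt η hη ζ S.X₂).2 d
        refine ⟨e, (bijective_pushStalk_maxPt η hη ζ S.X₃).1 (Eq.trans ?_ hd)⟩
        exact ConcreteCategory.congr_hom (pushStalk_nat g ζ S.g) e
      obtain ⟨e, rfl⟩ := hsurj b
      rw [← ConcreteCategory.comp_apply, ← Functor.map_comp, hz, Functor.map_zero]
      rfl
    · haveI := subsingleton_stalk_push η hη S.X₃ ξ fun h => hηξ (hmax η h).symm
      rw [show b = 0 from Subsingleton.elim (α := ((EtCoh.stalk ξ).obj Q.X₂ : Type (u + 1))) _ _, map_zero]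
  -- restrict to the open
  haveI : AlgebraicGeometry.Etale j := inferInstance
  haveI : (EtCoh.pull j).Additive := (EtCoh.pullPushAdj j).left_adjoint_additive
  haveI : PreservesFiniteColimits (EtCoh.pull j) := by
    haveI : PreservesColimitsOfSize.{0, 0} (EtCoh.pull j) := (EtCoh.pullPushAdj j).leftAdjoint_preservesColimits
    exact PreservesColimitsOfSize.preservesFiniteColimits _
  have hTj := hT.map_of_exact (EtCoh.pull j)
  have hQj := hQ.map_of_exact (EtCoh.pull j)
  haveI : Injective (T.map (EtCoh.pull j)).X₂ := EtStalk.injective_pull j T.X₂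
  obtain ⟨c, rfl⟩ := Ext.covariant_sequence_exact₁ _ hTj y (Ext.eq_zero_of_injective _) (n₀ := 1) rfl
  have hH1 : Subsingleton (EtCoh.H U ((EtCoh.pull j).obj ((EtCoh.push g).obj S.X₃)) 1) := by
    have hr : Set.range g ⊆ Set.range j := by
      rintro _ ⟨w, rfl⟩
      rwa [Subsingleton.elim w (IsLocalRing.closedPoint _), Scheme.fromSpecStalk_closedPoint]
    let g' := IsOpenImmersion.lift j g hr
    have hg' : g' ≫ j = g := IsOpenImmersion.lift_fac _ _ _
    haveI := EtStalk.isIso_pullPush_counit j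
    let e : (EtCoh.pull j).obj ((EtCoh.push g).obj S.X₃) ≅ (EtCoh.push g').obj S.X₃ :=
      (EtCoh.pull j).mapIso ((EtCoh.pushCongr hg'.symm).app S.X₃ ≪≫ ((EtCoh.pushComp j g').app S.X₃).symm) ≪≫
        asIso ((EtCoh.pullPushAdj j).counit.app ((EtCoh.push g').obj S.X₃))
    have h2 : Subsingleton (EtCoh.H (Spec (X.presheaf.stalk η)) S.X₃ 1) := by
      refine subsingleton_of_forall_eq 0 fun z => ?_
      obtain ⟨w, hw'⟩ := Ext.covariant_sequence_exact₃ _ hS z (n₁ := 2) rfl
        (@Subsingleton.elim _ (subsingleton_H_torsion_stalk s hdim hη G hG le_rfl) _ _)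
      rw [← hw', Ext.eq_zero_of_injective w, Ext.zero_comp]
    have h1 : Subsingleton (EtCoh.H U ((EtCoh.push g').obj S.X₃) 1) :=
      (EtAcyc24.injective_HofPush_one g' S.X₃).subsingleton
    exact (EtAcyc24.bijective_comp_iso e 1).1.subsingleton
  obtain ⟨t, rfl⟩ := Ext.covariant_sequence_exact₁ _ hQj c (@Subsingleton.elim _ hH1 _ _) (n₀ := 0) rfl
  obtain ⟨t₀, rfl⟩ := surjective_Hpull_zero j hD t
  refine ⟨(t₀.comp hQ.extClass rfl).comp hT.extClass rfl, ?_⟩
  rw [EtAcyc24.Hpull_comp, EtAcyc24.Hpull_comp, Ext.mapExactFunctor_extClass, Ext.mapExactFunctor_extClass]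
  rfl

include s in
/-- Reduced curves. -/
theorem surjective_of_reduced [IsReduced X] (hdim : topologicalKrullDim X ≤ 1)
    [PreservesFiniteLimits (EtCoh.pull j)] (F : EtCoh.Ab X) (hF : EtCoh.IsTorsion F) :
    Function.Surjective (EtCore.Hpull j F 2) := by
  haveI : IsLocallyNoetherian X := LocallyOfFiniteType.isLocallyNoetherian s
  haveI : CompactSpace X := QuasiCompact.compactSpace_of_compactSpace s
  haveI : IsNoetherian X := ⟨⟩
  haveI : QuasiCompact j := inferInstance
  haveI : PreservesColimitsOfSize.{0, 0} (EtCoh.pull j) := (EtCoh.pullPushAdj j).leftAdjoint_preservesColimits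
  haveI : (EtCoh.pull j).Additive := (EtCoh.pullPushAdj j).left_adjoint_additive
  let φ := toGenSheaf F
  have hb : ∀ (Ω : Type u) [Field Ω] [IsSepClosed Ω] (x : Spec (CommRingCat.of Ω) ⟶ X),
      ¬ IsClosed ({x default} : Set X) → IsIso ((EtCoh.stalk x).map φ) := fun Ω _ _ x hx =>
    (ConcreteCategory.isIso_iff_bijective _).2 (bijective_stalk_toGenSheaf F x (isMaxPt_of_dim_le_one hdim hx))
  have hK : SuppClosed (kernel φ) := fun Ω _ _ x hx => by
    haveI := hb Ω x hx
    exact AddCommGrpCat.subsingleton_of_isZero ((isZero_kernel_of_mono ((EtCoh.stalk x).map φ)).of_iso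
      (PreservesKernel.iso (EtCoh.stalk x) φ))
  have hC : SuppClosed (cokernel φ) := fun Ω _ _ x hx => by
    haveI := hb Ω x hx
    exact AddCommGrpCat.subsingleton_of_isZero ((isZero_cokernel_of_epi ((EtCoh.stalk x).map φ)).of_iso
      (PreservesCokernel.iso (EtCoh.stalk x) φ))
  have hmove : ∀ {A B : EtCoh.Ab U} (e : A ≅ B), SuppClosed B → SuppClosed A := fun e h Ω _ _ ξ hξ => by
    haveI := h Ω ξ hξ
    exact (ConcreteCategory.bijective_of_isIso ((EtCoh.stalk ξ).map e.hom)).1.subsingleton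
  have hX := isIso_HF_map s φ hK hC 2 (by norm_num) (Or.inl le_rfl)
  have hU := isIso_HF_map (j ≫ s) ((EtCoh.pull j).map φ)
    (hmove (PreservesKernel.iso (EtCoh.pull j) φ).symm (suppClosed_pull j hK))
    (hmove (PreservesCokernel.iso (EtCoh.pull j) φ).symm (suppClosed_pull j hC)) 2 (by norm_num) (Or.inl le_rfl)
  intro y
  suffices H : ∀ z : EtCoh.H U ((EtCoh.pull j).obj (genSheaf F)) 2, ∃ x, EtCore.Hpull j _ 2 x = z by
    obtain ⟨x₁, hx₁⟩ := H (y.comp (Ext.mk₀ ((EtCoh.pull j).map φ)) (add_zero 2))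
    obtain ⟨x, hx⟩ := ((ConcreteCategory.isIso_iff_bijective _).1 hX).2 x₁
    refine ⟨x, ((ConcreteCategory.isIso_iff_bijective _).1 hU).1 ?_⟩
    show (EtCore.Hpull j F 2 x).comp (Ext.mk₀ ((EtCoh.pull j).map φ)) (add_zero 2) = _
    rw [Hpull_mk₀]
    exact (congrArg _ (show x.comp (Ext.mk₀ φ) (add_zero 2) = x₁ from hx)).trans hx₁
  intro z
  let Fs := fun i : Fin (Fintype.card (MaxPts X)) =>
    (EtCoh.push (X.fromSpecStalk (maxPt X i).1)).obj ((EtCoh.pull (X.fromSpecStalk (maxPt X i).1)).obj F)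
  choose w hw using fun i => exists_lift_push_pull j s hdim (maxPt X i).1 (maxPt X i).2 F hF
    (z.comp (Ext.mk₀ ((EtCoh.pull j).map (biproduct.π Fs i))) (add_zero 2))
  refine ⟨∑ i, (w i).comp (Ext.mk₀ (biproduct.ι Fs i)) (add_zero 2), ?_⟩
  rw [map_sum]
  have h1 : ∀ i, EtCore.Hpull j (genSheaf F) 2 ((w i).comp (Ext.mk₀ (biproduct.ι Fs i)) (add_zero 2)) =
      z.comp (Ext.mk₀ ((EtCoh.pull j).map (biproduct.π Fs i ≫ biproduct.ι Fs i))) (add_zero 2) := fun i => by
    rw [← Hpull_mk₀, hw, Ext.comp_assoc_of_third_deg_zero, Ext.mk₀_comp_mk₀, ← Functor.map_comp]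
  rw [Finset.sum_congr rfl fun i _ => h1 i, ← Ext.comp_sum]
  have h2 := map_sum (Ext.addEquiv₀ (X := (EtCoh.pull j).obj (⨁ Fs)) (Y := (EtCoh.pull j).obj (⨁ Fs))).symm
    (fun i => (EtCoh.pull j).map (biproduct.π Fs i ≫ biproduct.ι Fs i)) Finset.univ
  refine (congrArg (fun t => z.comp t (add_zero 2)) h2.symm).trans ?_
  show z.comp (Ext.mk₀ (∑ i, (EtCoh.pull j).map (biproduct.π Fs i ≫ biproduct.ι Fs i))) (add_zero 2) = z
  rw [← Functor.map_sum, biproduct.total, CategoryTheory.Functor.map_id, Ext.comp_mk₀_id]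

include s in
/-- Restriction to an open is surjective in degree two. -/
theorem surjective_Hpull_two (hdim : topologicalKrullDim X ≤ 1) [PreservesFiniteLimits (EtCoh.pull j)]
    (F : EtCoh.Ab X) (hF : EtCoh.IsTorsion F) : Function.Surjective (EtCore.Hpull j F 2) := by
  let i := X.nilradical.subschemeι
  haveI : IsReduced X.nilradical.subscheme := RedSepLib.isReduced_nilradical_subscheme X
  haveI hsurj : Surjective i := ⟨fun x => by
    show x ∈ Set.range i
    rw [Scheme.IdealSheafData.range_subschemeι, Scheme.support_nilradical]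
    trivial⟩
  have hh : IsHomeomorph i :=
    isHomeomorph_iff_isEmbedding_surjective.2 ⟨i.isClosedEmbedding.isEmbedding, i.surjective⟩
  have hd : topologicalKrullDim X.nilradical.subscheme ≤ 1 :=
    (IsHomeomorph.topologicalKrullDim_eq _ hh).trans_le hdim
  let i' := pullback.fst j i
  let j' := pullback.snd j i
  haveI := EtStalk.preservesFiniteLimits_pull i
  haveI := EtStalk.preservesFiniteLimits_pull i'
  haveI := EtStalk.preservesFiniteLimits_pull j'
  haveI : QuasiCompact (i ≫ s) := inferInstance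
  have hj' := surjective_of_reduced j' (i ≫ s) hd ((EtCoh.pull i).obj F) (isTorsion_pull' i hF)
  have hi := S0642.result i F 2
  have hi' := S0642.result i' ((EtCoh.pull j).obj F) 2
  haveI := EtStalk.preservesFiniteLimits_pull (j' ≫ i)
  haveI := EtStalk.preservesFiniteLimits_pull (i' ≫ j)
  have h1 : Function.Surjective (EtCore.Hpull (j' ≫ i) F 2) := by
    rw [EtAcyc24.Hpull_comp_eq]
    exact (EtAcyc24.bijective_comp_iso _ 2).2.comp (hj'.comp hi.2)
  have h2 : ∀ {m m' : pullback j i ⟶ X} (_ : m = m') [PreservesFiniteLimits (EtCoh.pull m)]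
      [PreservesFiniteLimits (EtCoh.pull m')], Function.Surjective (EtCore.Hpull m F 2) →
      Function.Surjective (EtCore.Hpull m' F 2) := by rintro m m' rfl _ _ h; exact h
  have h3 := h2 pullback.condition.symm h1
  rw [EtAcyc24.Hpull_comp_eq] at h3
  intro y
  obtain ⟨x, hx⟩ := h3 ((EtCore.Hpull i' ((EtCoh.pull j).obj F) 2 y).comp
    (Ext.mk₀ ((EtCore.pullComp i' j).app F).symm.hom) (add_zero 2))
  exact ⟨x, hi'.1 ((EtAcyc24.bijective_comp_iso ((EtCore.pullComp i' j).app F).symm 2).1 hx)⟩

end Groth.Agent.CurveOpen24
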